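import Groth.Agent.WeilResLib.Transporter
import Groth.Prelude.Def_Red
import Groth.Prelude.Def_Frob
import Mathlib.FieldTheory.PurelyInseparable.Exponent
import Mathlib.AlgebraicGeometry.Morphisms.UniversallyInjective

/-! A subgroup over a purely inseparable extension descends topologically, by pulling back along an iterate
of the Frobenius. -/

set_option autoImplicit false
set_option backward.isDefEq.respectTransparency false
set_option backward.isDefEq.respectTransparency.types false
set_option linter.style.haveILetI false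
set_option maxHeartbeats 1000000
set_option synthInstance.maxHeartbeats 400000

universe u

open CategoryTheory CategoryTheory.Limits MonoidalCategory CartesianMonoidalCategory AlgebraicGeometry
open scoped MonObj

namespace Groth.Agent.FrobDesc

/-- A Frobenius-like factorisation of the endomorphisms of a pair of bases. -/
structure Data {S S' : Scheme.{u}} (σ : S' ⟶ S) (τ : S ⟶ S') where
  fr : ∀ X : Over S, X.left ⟶ X.left
  w : ∀ X : Over S, fr X ≫ X.hom = X.hom ≫ τ ≫ σ
  w' : ∀ X : Over S', fr ((Over.map σ).obj X) ≫ X.hom = X.hom ≫ σ ≫ τ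
  nat : ∀ {X Y : Over S} (f : X ⟶ Y), fr X ≫ f.left = f.left ≫ fr Y
  pt : ∀ (X : Over S) (x : X.left), fr X x = x

variable {S S' : Scheme.{u}} {σ : S' ⟶ S} {τ : S ⟶ S'} (D : Data σ τ)

/-- The endomorphism as a natural map over the base. -/
noncomputable def ν (X : Over S) : (Over.map σ).obj ((Over.map τ).obj X) ⟶ X :=
  Over.homMk (D.fr X) (by
    show D.fr X ≫ X.hom = (X.hom ≫ τ) ≫ σ
    rw [D.w, Category.assoc])

theorem ν_nat {X Y : Over S} (f : X ⟶ Y) : (Over.map σ).map ((Over.map τ).map f) ≫ ν D Y = ν D X ≫ f := by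
  ext
  exact (D.nat f).symm

/-- The relative endomorphism. -/
noncomputable def F (X : Over S) : X ⟶ (Over.pullback τ).obj ((Over.pullback σ).obj X) :=
  (Over.mapPullbackAdj τ).homEquiv _ _ ((Over.mapPullbackAdj σ).homEquiv _ _ (ν D X))

theorem F_nat {X Y : Over S} (f : X ⟶ Y) :
    f ≫ F D Y = F D X ≫ (Over.pullback τ).map ((Over.pullback σ).map f) := by
  rw [F, F, ← Adjunction.homEquiv_naturality_left, ← Adjunction.homEquiv_naturality_right,
    ← Adjunction.homEquiv_naturality_left, ← Adjunction.homEquiv_naturality_right, ν_nat]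

theorem F_isMonHom (G : Over S) [GrpObj G] :
    @IsMonHom _ _ _ G (Red.bc τ (Red.bc σ G)) _ _ (F D G) := by
  let P := Over.pullback σ ⋙ Over.pullback τ
  have hpair : ∀ {X : Over S} (a b : X ⟶ G), (a * b) ≫ F D G =
      F D X ≫ P.map (a * b) := fun a b => F_nat D (a * b)
  have key : ∀ {X : Over S} (a b : X ⟶ G),
      ((a * b) ≫ F D G : X ⟶ Red.bc τ (Red.bc σ G)) = (a ≫ F D G) * (b ≫ F D G) := by
    intro X a b
    rw [hpair, F_nat D a, F_nat D b]
    show F D X ≫ (Over.pullback τ).map ((Over.pullback σ).map (a * b)) = _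
    rw [Functor.map_mul, Functor.map_mul, MonObj.comp_mul]
  refine ⟨?_, ?_⟩
  · have h1 := key (1 : 𝟙_ (Over S) ⟶ G) 1
    rw [mul_one] at h1
    have h2 : ((1 : 𝟙_ (Over S) ⟶ G) ≫ F D G : 𝟙_ (Over S) ⟶ Red.bc τ (Red.bc σ G)) = 1 :=
      left_eq_mul.1 h1
    rw [Hom.one_def, Hom.one_def, toUnit_unique (toUnit _) (𝟙 _), Category.id_comp, Category.id_comp] at h2
    exact h2
  · have h1 := key (fst G G) (snd G G)
    rw [Hom.mul_def, Hom.mul_def, lift_fst_snd, Category.id_comp] at h1
    refine h1.trans ?_
    congr 1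

theorem F_fst_fst (G : Over S) :
    (F D G).left ≫ pullback.fst ((Over.pullback σ).obj G).hom τ ≫ pullback.fst G.hom σ = D.fr G := by
  have h1 : ((Over.mapPullbackAdj τ).homEquiv _ _).symm (F D G) = (Over.mapPullbackAdj σ).homEquiv _ _ (ν D G) :=
    Equiv.symm_apply_apply _ _
  have h2 : ((Over.mapPullbackAdj σ).homEquiv _ _).symm (((Over.mapPullbackAdj τ).homEquiv _ _).symm (F D G)) = ν D G := by
    rw [h1, Equiv.symm_apply_apply]
  have h3 := congrArg (fun t => t.left) h2
  simp [ν, Adjunction.homEquiv_counit] at h3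
  simpa [Category.assoc] using h3

include D in
/-- The descended subgroup. -/
theorem exists_descend [UniversallyInjective σ] (G : Over S) [GrpObj G] (H' : Over S') [GrpObj H']
    (h' : H' ⟶ Red.bc σ G) [IsMonHom h'] [IsClosedImmersion h'.left] :
    ∃ (H : Over S) (_ : GrpObj H) (h : H ⟶ G), IsMonHom h ∧ IsClosedImmersion h.left ∧
      ∃ g : H' ⟶ Red.bc σ H, g ≫ (Over.pullback σ).map h = h' ∧ Surjective g.left := by
  let A := Red.bc τ H'
  let a : A ⟶ Red.bc τ (Red.bc σ G) := (Over.pullback τ).map h'
  haveI : IsMonHom a := inferInstance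
  haveI : IsClosedImmersion a.left :=
    MorphismProperty.overPullbackMap (P := @IsClosedImmersion) τ h' inferInstance
  haveI := F_isMonHom D G
  let φ : G ⟶ Red.bc τ (Red.bc σ G) := F D G
  let P := pullback φ.left a.left
  let H : Over S := Over.mk (pullback.fst φ.left a.left ≫ G.hom)
  let h : H ⟶ G := Over.homMk (pullback.fst φ.left a.left) rfl
  haveI hci : IsClosedImmersion h.left := MorphismProperty.pullback_fst _ _ inferInstance
  haveI : Mono h := Over.mono_of_mono_left h
  have hQ : ∀ {X : Over S} (g : X ⟶ G), (∃ z, z ≫ h = g) ↔ ∃ w : X ⟶ A, w ≫ a = g ≫ φ := by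
    intro X g
    constructor
    · rintro ⟨z, rfl⟩
      refine ⟨Over.homMk (z.left ≫ pullback.snd φ.left a.left) ?_, ?_⟩
      · show (z.left ≫ pullback.snd φ.left a.left) ≫ A.hom = X.hom
        rw [← Over.w a, Category.assoc, ← pullback.condition_assoc, Over.w φ]
        exact Over.w z
      · ext
        show (z.left ≫ pullback.snd φ.left a.left) ≫ a.left = (z.left ≫ pullback.fst φ.left a.left) ≫ φ.left
        rw [Category.assoc, Category.assoc, pullback.condition]
    · rintro ⟨w, hw⟩
      have hw' : g.left ≫ φ.left = w.left ≫ a.left := (congrArg (fun t => t.left) hw).symm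
      refine ⟨Over.homMk (pullback.lift g.left w.left hw') ?_, ?_⟩
      · show pullback.lift g.left w.left hw' ≫ pullback.fst φ.left a.left ≫ G.hom = X.hom
        rw [pullback.lift_fst_assoc, Over.w g]
      · ext
        exact pullback.lift_fst _ _ _
  obtain ⟨i1, i2⟩ := WeilRes.exists_grpObj_of_pred h (fun {X} g => ∃ w : X ⟶ A, w ≫ a = g ≫ φ) hQ
    ⟨1, by rw [MonObj.one_comp, MonObj.one_comp]⟩
    (by rintro X x y ⟨u, hu⟩ ⟨v, hv⟩; exact ⟨u * v, by rw [MonObj.mul_comp, MonObj.mul_comp, hu, hv]⟩)
    (by rintro X x ⟨u, hu⟩; exact ⟨u⁻¹, by rw [GrpObj.inv_comp, GrpObj.inv_comp, hu]⟩)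
  letI := i1
  refine ⟨H, i1, h, i2, hci, ?_⟩
  -- `H'` lands in the base change
  let g0 : (Over.map σ).obj H' ⟶ G := ((Over.mapPullbackAdj σ).homEquiv _ _).symm h'
  let n' : (Over.map τ).obj ((Over.map σ).obj H') ⟶ H' := Over.homMk (D.fr ((Over.map σ).obj H')) (by
    show D.fr ((Over.map σ).obj H') ≫ H'.hom = (H'.hom ≫ σ) ≫ τ
    rw [D.w', Category.assoc])
  have hg0 : ∃ w : (Over.map σ).obj H' ⟶ A, w ≫ a = g0 ≫ φ := by
    refine ⟨(Over.mapPullbackAdj τ).homEquiv _ _ n', ?_⟩
    rw [← Adjunction.homEquiv_naturality_right]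
    show _ = g0 ≫ F D G
    rw [F, ← Adjunction.homEquiv_naturality_left, ← Adjunction.homEquiv_naturality_left, ν_nat]
    congr 1
    apply ((Over.mapPullbackAdj σ).homEquiv _ _).symm.injective
    rw [Adjunction.homEquiv_naturality_left_symm, Equiv.symm_apply_apply]
    ext
    rfl
  obtain ⟨x, hx⟩ := (hQ g0).2 hg0
  let g : H' ⟶ Red.bc σ H := (Over.mapPullbackAdj σ).homEquiv _ _ x
  have hg : g ≫ (Over.pullback σ).map h = h' := by
    rw [← Adjunction.homEquiv_naturality_right, hx]
    exact Equiv.apply_symm_apply _ _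
  refine ⟨g, hg, ⟨fun z => ?_⟩⟩
  let hb := ((Over.pullback σ).map h).left
  have hinj : Function.Injective hb := by
    haveI : IsClosedImmersion hb := MorphismProperty.overPullbackMap (P := @IsClosedImmersion) σ h hci
    exact hb.isClosedEmbedding.injective
  let ρ : G.left ⟶ (Red.bc σ G).left := φ.left ≫ pullback.fst (Red.bc σ G).hom τ
  let y0 : G.left := h.left (pullback.fst H.hom σ z)
  have hρ : ρ y0 = hb z := by
    haveI : UniversallyInjective (pullback.fst G.hom σ) := MorphismProperty.pullback_fst _ _ ‹UniversallyInjective σ›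
    apply (pullback.fst G.hom σ).injective
    show (ρ ≫ pullback.fst G.hom σ) y0 = _
    have e1 : ρ ≫ pullback.fst G.hom σ = D.fr G := by
      rw [Category.assoc]; exact F_fst_fst D G
    rw [e1, D.pt]
    show (pullback.fst H.hom σ ≫ h.left) z = (hb ≫ pullback.fst G.hom σ) z
    rw [show hb ≫ pullback.fst G.hom σ = pullback.fst H.hom σ ≫ h.left from pullback.lift_fst _ _ _]
    rfl
  have hsq : h.left ≫ ρ = (pullback.snd φ.left a.left ≫ pullback.fst H'.hom τ) ≫ h'.left := by
    show pullback.fst φ.left a.left ≫ φ.left ≫ pullback.fst (Red.bc σ G).hom τ = _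
    rw [pullback.condition_assoc, Category.assoc]
    congr 1
    exact pullback.lift_fst _ _ _
  refine ⟨(pullback.snd φ.left a.left ≫ pullback.fst H'.hom τ) (pullback.fst H.hom σ z), hinj ?_⟩
  rw [← Scheme.Hom.comp_apply, show g.left ≫ hb = h'.left from congrArg (fun t => t.left) hg, ← hρ,
    ← Scheme.Hom.comp_apply]
  show _ = (h.left ≫ ρ) (pullback.fst H.hom σ z)
  rw [hsq]
  rfl

/-- Iterates of the absolute Frobenius of a scheme over a base of characteristic `p`. -/
noncomputable def frobN (X : Scheme.{u}) (p : ℕ) [Fact p.Prime] [FrobSch.IsCharP X p] : ℕ → (X ⟶ X)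
  | 0 => 𝟙 X
  | n + 1 => frobN X p n ≫ FrobSch.frob X p

theorem frobN_comp {X Y : Scheme.{u}} (p : ℕ) [Fact p.Prime] [FrobSch.IsCharP X p] [FrobSch.IsCharP Y p]
    (f : X ⟶ Y) : ∀ n, frobN X p n ≫ f = f ≫ frobN Y p n
  | 0 => by simp [frobN]
  | n + 1 => by
    show (frobN X p n ≫ FrobSch.frob X p) ≫ f = f ≫ frobN Y p n ≫ FrobSch.frob Y p
    rw [Category.assoc, FrobSch.frob_comp, reassoc_of% (frobN_comp p f n)]

theorem frobN_pt (X : Scheme.{u}) (p : ℕ) [Fact p.Prime] [FrobSch.IsCharP X p] (x : X) :
    ∀ n, frobN X p n x = x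
  | 0 => rfl
  | n + 1 => by
    show FrobSch.frob X p (frobN X p n x) = x
    rw [FrobSch.frob_apply, frobN_pt X p x n]

theorem frobN_Spec (R : Type u) [CommRing R] (p : ℕ) [Fact p.Prime] [CharP R p] :
    ∀ n, frobN (Spec (CommRingCat.of R)) p n = Spec.map (CommRingCat.ofHom (iterateFrobenius R p n))
  | 0 => by
    rw [show iterateFrobenius R p 0 = RingHom.id R from RingHom.ext fun x => by simp [iterateFrobenius_def]]
    exact (Spec.map_id _).symm
  | n + 1 => by
    have h1 : FrobSch.frob (Spec (CommRingCat.of R)) p = Spec.map (CommRingCat.ofHom (frobenius R p)) := by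
      apply ext_of_isAffine
      ext s
      rw [FrobSch.frob_appTop]
      apply (Scheme.ΓSpecIso (CommRingCat.of R)).commRingCatIsoToRingEquiv.injective
      have hn := congrArg (fun t => t.hom s) (Scheme.ΓSpecIso_naturality (CommRingCat.ofHom (frobenius R p)))
      rw [map_pow]
      exact hn.symm
    show frobN _ p n ≫ FrobSch.frob _ p = _
    rw [frobN_Spec R p n, h1, ← Spec.map_comp]
    congr 1
    refine CommRingCat.hom_ext (RingHom.ext fun x => ?_)
    show iterateFrobenius R p n (frobenius R p x) = iterateFrobenius R p (n + 1) x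
    simp only [iterateFrobenius_def, frobenius_def, ← pow_mul, pow_succ']

/-- A finite purely inseparable extension carries such a factorisation. -/
theorem exists_data (k K : Type u) [Field k] [Field K] [Algebra k K] [Module.Finite k K] [IsPurelyInseparable k K] :
    ∃ τ : Spec (CommRingCat.of k) ⟶ Spec (CommRingCat.of K),
      Nonempty (Data (Spec.map (CommRingCat.ofHom (algebraMap k K))) τ) := by
  classical
  let σ := Spec.map (CommRingCat.ofHom (algebraMap k K))
  rcases CharP.exists' k with h0 | ⟨p, hp, hc⟩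
  · haveI := h0
    have hb : Function.Bijective (algebraMap k K) :=
      ⟨(algebraMap k K).injective, IsPurelyInseparable.surjective_algebraMap_of_isSeparable k K⟩
    let e := RingEquiv.ofBijective (algebraMap k K) hb
    refine ⟨Spec.map (CommRingCat.ofHom e.symm.toRingHom), ⟨⟨fun X => 𝟙 _, fun X => ?_, fun X => ?_, fun f => ?_, fun _ _ => rfl⟩⟩⟩
    · rw [← Spec.map_comp, show CommRingCat.ofHom (algebraMap k K) ≫ CommRingCat.ofHom e.symm.toRingHom = 𝟙 _ from
        CommRingCat.hom_ext (RingHom.ext e.symm_apply_apply), Spec.map_id]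
      simp
    · rw [← Spec.map_comp, show CommRingCat.ofHom e.symm.toRingHom ≫ CommRingCat.ofHom (algebraMap k K) = 𝟙 _ from
        CommRingCat.hom_ext (RingHom.ext e.apply_symm_apply), Spec.map_id]
      simp
    · simp
  · haveI := hp
    haveI := hc
    haveI : CharP K p := charP_of_injective_algebraMap (algebraMap k K).injective p
    haveI : ExpChar k p := ExpChar.prime hp.out
    let n := IsPurelyInseparable.exponent k K
    have hn : ∀ a : K, ∃ b : k, algebraMap k K b = a ^ p ^ n := fun a => IsPurelyInseparable.exponent_def' k p a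
    choose φ hφ using hn
    let φ' : K →+* k :=
      { toFun := φ
        map_one' := (algebraMap k K).injective (by simp [hφ])
        map_mul' := fun x y => (algebraMap k K).injective (by simp [hφ, mul_pow])
        map_zero' := (algebraMap k K).injective (by rw [hφ, map_zero, zero_pow (pow_ne_zero n hp.out.ne_zero)])
        map_add' := fun x y => (algebraMap k K).injective (by simp [hφ, add_pow_char_pow]) }
    haveI hX : ∀ X : Over (Spec (CommRingCat.of k)), FrobSch.IsCharP X.left p := fun X => FrobSch.IsCharP.of_hom X.hom p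
    refine ⟨Spec.map (CommRingCat.ofHom φ'), ⟨⟨fun X => frobN X.left p n, fun X => ?_, fun X => ?_, fun f => ?_,
      fun X x => frobN_pt X.left p x n⟩⟩⟩
    · rw [← Spec.map_comp, frobN_comp p X.hom n, frobN_Spec]
      congr 2
      refine CommRingCat.hom_ext (RingHom.ext fun x => (algebraMap k K).injective ?_)
      show algebraMap k K (iterateFrobenius k p n x) = algebraMap k K (φ (algebraMap k K x))
      rw [hφ, iterateFrobenius_def, map_pow]
    · rw [← Spec.map_comp]
      haveI : FrobSch.IsCharP X.left p := FrobSch.IsCharP.of_hom X.hom p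
      have h2 : frobN ((Over.map σ).obj X).left p n ≫ X.hom = X.hom ≫ frobN (Spec (CommRingCat.of K)) p n :=
        @frobN_comp _ _ p _ _ _ X.hom n
      refine h2.trans ?_
      rw [frobN_Spec]
      congr 2
      refine CommRingCat.hom_ext (RingHom.ext fun x => ?_)
      show iterateFrobenius K p n x = algebraMap k K (φ x)
      rw [hφ, iterateFrobenius_def]
    · exact frobN_comp p f.left n

end Groth.Agent.FrobDesc
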